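import Groth.Agent.EGA43.DimFormula.Core

/-!
# Fibre dimensions bounded by those at maximal points (EGA IV 5.6.5, 14.2)
-/

set_option autoImplicit false
set_option backward.isDefEq.respectTransparency false
set_option linter.style.haveILetI false

universe u

open CategoryTheory CategoryTheory.Limits AlgebraicGeometry TopologicalSpace IsLocalRing

namespace Groth.Agent.VarDim23

open Groth.Agent FlatMorWeight EGA43.DimFormula

variable {X Y : Scheme.{u}} (f : X ⟶ Y) [LocallyOfFiniteType f]

/-- At a maximal point, the fibre dimension is the transcendence degree. -/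
theorem fibreDimAt_of_maximal {η : X} (h : IsMaximalPt η) :
    FlatMor.fibreDimAt f η = (DimLib.trdegHom (f.residueFieldMap η).hom : WithBot ℕ∞) := by
  obtain ⟨z, hz, -, -, hd⟩ := EGA43.Chevalley.exists_maximal_fibreDimAt f η
  rw [hd, h z hz]

/-- Below a point with Noetherian image, there is a maximal point bounding the fibre dimension. -/
theorem exists_maximal_bound (x : X) [IsNoetherianRing (Y.presheaf.stalk (f x))] :
    ∃ η z : X, IsMaximalPt η ∧ η ⤳ z ∧ η ⤳ x ∧ f z = f x ∧
      FlatMor.fibreDimAt f x = (DimLib.trdegHom (f.residueFieldMap z).hom : WithBot ℕ∞) ∧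
      (η = z ∨ DimLib.trdegHom (f.residueFieldMap z).hom + 1 ≤
        natDim (Y.presheaf.stalk (f x)) + DimLib.trdegHom (f.residueFieldMap η).hom) := by
  obtain ⟨z, hzx, hz, -, hd⟩ := EGA43.Chevalley.exists_maximal_fibreDimAt f x
  haveI : IsNoetherianRing (Y.presheaf.stalk (f z)) := by rw [hz]; infer_instance
  have hn : natDim (Y.presheaf.stalk (f z)) = natDim (Y.presheaf.stalk (f x)) := by rw [hz]
  let _ := stalkAlgebra f z
  obtain ⟨h1, h2⟩ := stalk_instances f z
  haveI := h1
  haveI := h2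
  haveI : IsNoetherianRing (X.presheaf.stalk z) :=
    Algebra.EssFiniteType.isNoetherianRing (Y.presheaf.stalk (f z)) _
  obtain ⟨P, hP⟩ := Ideal.exists_minimalPrimes_le (I := (⊥ : Ideal (X.presheaf.stalk z)))
    (J := maximalIdeal _) bot_le
  haveI := hP.1.isPrime
  let Q : PrimeSpectrum (X.presheaf.stalk z) := ⟨P, inferInstance⟩
  have hmax : IsMaximalPt (toPt z Q) := (mem_minimalPrimes_iff z Q).1 hP.1
  refine ⟨toPt z Q, z, hmax, toPt_specializes z Q, (toPt_specializes z Q).trans hzx, hz, hd, ?_⟩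
  by_cases hQ : Q = closedPoint (X.presheaf.stalk z)
  · exact Or.inl ((congrArg (toPt z) hQ).trans (toPt_closedPoint z))
  refine Or.inr ?_
  rw [← hn]
  have h := (prime_formula (A := Y.presheaf.stalk (f z)) Q).1
  rw [← trd_toPt f z Q, ← trd_closedPoint f z] at h
  haveI := isLocalRing_quotient Q.asIdeal Q.isPrime.ne_top
  haveI : IsLocalRing (Y.presheaf.stalk (f z) ⧸ Q.asIdeal.comap (algebraMap (Y.presheaf.stalk (f z)) _)) :=
    isLocalRing_quotient _ (Ideal.comap_ne_top _ Q.isPrime.ne_top)
  rw [ringKrullDim_eq_natDim, ringKrullDim_eq_natDim] at h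
  have hle := natDim_le_of_surjective (Ideal.Quotient.mk (Q.asIdeal.comap (algebraMap (Y.presheaf.stalk (f z))
    (X.presheaf.stalk z)))) Ideal.Quotient.mk_surjective
  have hpos := natDim_quotient_lt Q (closedPoint _)
    (lt_of_le_of_ne (le_maximalIdeal Q.isPrime.ne_top) hQ)
  have h' : natDim (X.presheaf.stalk z ⧸ Q.asIdeal) + DimLib.trdegHom (f.residueFieldMap z).hom ≤
      natDim (Y.presheaf.stalk (f z) ⧸ Q.asIdeal.comap (algebraMap (Y.presheaf.stalk (f z)) _)) +
        DimLib.trdegHom (f.residueFieldMap (toPt z Q)).hom := by exact_mod_cast h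
  omega

theorem mem_component {η x : X} (h : IsMaximalPt η) (hx : η ⤳ x) :
    closure {η} ∈ irreducibleComponents (X : Type u) ∧ x ∈ closure ({η} : Set X) ∧
      IsGenericPoint η (closure ({η} : Set X)) :=
  ⟨DimLib.closure_mem_components fun w hw => (h w hw).symm, hx.mem_closure, rfl⟩

/-- EGA IV 14.2: bound of the fibre dimension over a Noetherian local base. -/
theorem fibreDimAt_add_one_le (x : X) [IsNoetherianRing (Y.presheaf.stalk (f x))] (d : ℕ)
    (hgen : ∀ Z ∈ irreducibleComponents (X : Type u), x ∈ Z → ∀ η : X, IsGenericPoint η Z →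
      f η ≠ f x ∧ FlatMor.fibreDimAt f η = d) :
    FlatMor.fibreDimAt f x + 1 ≤ (d : WithBot ℕ∞) + ringKrullDim (Y.presheaf.stalk (f x)) := by
  obtain ⟨η, z, hmax, hηz, hηx, hz, hd, h⟩ := exists_maximal_bound f x
  obtain ⟨hC, hxC, hgp⟩ := mem_component hmax hηx
  obtain ⟨hne, hη⟩ := hgen _ hC hxC η hgp
  rw [fibreDimAt_of_maximal f hmax] at hη
  have hη' : DimLib.trdegHom (f.residueFieldMap η).hom = d := by exact_mod_cast hη
  rcases h with rfl | h
  · exact absurd hz hne
  rw [hd, ringKrullDim_eq_natDim]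
  exact_mod_cast (show DimLib.trdegHom (f.residueFieldMap z).hom + 1 ≤
    d + natDim (Y.presheaf.stalk (f x)) by omega)

/-- Constancy of the fibre dimension over a base of dimension at most one. -/
theorem fibreDimAt_eq_of_dim_le_one (x : X) [IsNoetherianRing (Y.presheaf.stalk (f x))]
    (hdim : ringKrullDim (Y.presheaf.stalk (f x)) ≤ 1) (d : ℕ)
    (hgen : ∀ Z ∈ irreducibleComponents (X : Type u), x ∈ Z → ∀ η : X, IsGenericPoint η Z →
      FlatMor.fibreDimAt f η = d) :
    FlatMor.fibreDimAt f x = d := by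
  obtain ⟨η, z, hmax, hηz, hηx, hz, hd, h⟩ := exists_maximal_bound f x
  obtain ⟨hC, hxC, hgp⟩ := mem_component hmax hηx
  have hη := hgen _ hC hxC η hgp
  rw [fibreDimAt_of_maximal f hmax] at hη
  have hη' : DimLib.trdegHom (f.residueFieldMap η).hom = d := by exact_mod_cast hη
  rw [ringKrullDim_eq_natDim] at hdim
  have hn : natDim (Y.presheaf.stalk (f x)) ≤ 1 := by exact_mod_cast hdim
  have hge : DimLib.trdegHom (f.residueFieldMap η).hom ≤ DimLib.trdegHom (f.residueFieldMap z).hom :=
    EGA43.Chevalley.trdegHom_le_fibreDimAt f hηx _ hd.le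
  rw [hd]
  rcases h with rfl | h
  · exact congrArg (fun k : ℕ => (k : WithBot ℕ∞)) hη'
  exact_mod_cast (show DimLib.trdegHom (f.residueFieldMap z).hom = d by omega)

end Groth.Agent.VarDim23
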