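import Groth.Agent.EGA43.DimFormula.Core
import Groth.Agent.FlatMorDim.LocalDim
import Groth.Agent.DimLib.Sub
import Groth.Agent.DimLib.Morphism

/-!
# Fibre dimensions of morphisms over a field
-/

set_option autoImplicit false
set_option linter.style.haveILetI false

universe u

open CategoryTheory AlgebraicGeometry TopologicalSpace

namespace Groth.Agent.VarDim23

open Groth.Agent

theorem ptDim_closure {k : Type u} [Field k] {Y : Scheme.{u}} (p : Y ⟶ Spec (.of k)) [LocallyOfFiniteType p] (y : Y) :
    topologicalKrullDim ↥(closure ({y} : Set Y)) = (DimLib.ptDim p y : WithBot ℕ∞) := by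
  rw [DimLib.topologicalKrullDim_locallyClosed_eq_iSup p isClosed_closure.isLocallyClosed]
  refine le_antisymm (iSup_le fun x => ?_) (le_iSup_of_le ⟨y, subset_closure rfl⟩ le_rfl)
  by_cases hxy : y = x.1
  · rw [← hxy]
  · exact_mod_cast (DimLib.ptDim_lt_of_specializes p (specializes_iff_mem_closure.2 x.2) hxy).le

variable {k : Type u} [Field k] {X Y : Scheme.{u}} (q : X ⟶ Spec (.of k)) (p : Y ⟶ Spec (.of k))
  [LocallyOfFiniteType q] [LocallyOfFiniteType p] [IrreducibleSpace X] (f : X ⟶ Y) (hf : f ≫ p = q)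

include hf in
theorem fibreDim_ge_and_open_dense (a b : ℕ) (ha : topologicalKrullDim X = a)
    (hb : topologicalKrullDim (closure (Set.range f.base)) = b) :
    (∀ x : X, ((a - b : ℕ) : WithBot ℕ∞) ≤ FlatMor.fibreDimAt f x) ∧
      IsOpen {x : X | FlatMor.fibreDimAt f x = (a - b : ℕ)} ∧
        Dense {x : X | FlatMor.fibreDimAt f x = (a - b : ℕ)} := by
  subst hf
  haveI : LocallyOfFiniteType f := locallyOfFiniteType_of_comp f p
  have hcl : closure (Set.range f.base) = closure {f.base (genericPoint X)} := by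
    refine le_antisymm (closure_minimal ?_ isClosed_closure) (closure_mono (by simp))
    rintro _ ⟨x, rfl⟩
    exact ((genericPoint_specializes x).map f.continuous).mem_closure
  rw [DimLib.topologicalKrullDim_eq_ptDim_genericPoint (f ≫ p), DimLib.ptDim_comp p f] at ha
  rw [hcl, ptDim_closure p] at hb
  have ha' : DimLib.ptDim p (f (genericPoint X)) + DimLib.trdegHom (f.residueFieldMap (genericPoint X)).hom = a := by
    exact_mod_cast ha
  have hb' : DimLib.ptDim p (f (genericPoint X)) = b := by exact_mod_cast hb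
  have hd : DimLib.trdegHom (f.residueFieldMap (genericPoint X)).hom = a - b := by omega
  have hge : ∀ x : X, ((a - b : ℕ) : WithBot ℕ∞) ≤ FlatMor.fibreDimAt f x := fun x => by
    obtain ⟨z, -, -, -, hz⟩ := EGA43.Chevalley.exists_maximal_fibreDimAt f x
    rw [hz, ← hd]
    exact_mod_cast EGA43.Chevalley.trdegHom_le_fibreDimAt f (genericPoint_specializes x) _ hz.le
  have hset : {x : X | FlatMor.fibreDimAt f x = (a - b : ℕ)} = {x : X | FlatMor.fibreDimAt f x ≤ ((a - b : ℕ) : WithBot ℕ∞)} :=
    Set.ext fun x => ⟨fun h => le_of_eq h, fun h => le_antisymm h (hge x)⟩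
  have hopen := FlatMorDim.isOpen_fibreDimAt_le f (a - b)
  rw [← hset] at hopen
  refine ⟨hge, hopen, hopen.dense ⟨genericPoint X, ?_⟩⟩
  show _ = _
  obtain ⟨z, hz, -, -, hz'⟩ := EGA43.Chevalley.exists_maximal_fibreDimAt f (genericPoint X)
  rw [hz', ← hd, (hz.antisymm (genericPoint_specializes z)).eq]

end Groth.Agent.VarDim23
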